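import Mathlib
import Groth.Prelude.Def_FlatCA
import Groth.Agent.Lib.Lead.QC.WeakAssAlg

/-!
# Weakly associated primes and polynomial extensions

* `mem_weakAss_of_mem_minimalPrimes_annihilator_span`: a prime minimal over the annihilator of a
  finitely generated submodule is weakly associated.
* `comap_C_mem_weakAss`: a weakly associated prime of `M[T] = R[T] ⊗ M` contracts to a weakly
  associated prime of `M`.
-/

set_option autoImplicit false
universe u
open TensorProduct

namespace Groth.Agent.H3.WeakAssBC

open Groth.Agent.LD.QC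

section L0
variable {R : Type u} [CommRing R] {M : Type u} [AddCommGroup M] [Module R M]

/-- a prime minimal over the annihilator of a finitely generated submodule is weakly associated -/
theorem mem_weakAss_of_mem_minimalPrimes_annihilator_span (s : Finset M) (p : Ideal R)
    (hp : p ∈ (Submodule.span R (s : Set M)).annihilator.minimalPrimes) :
    p ∈ FlatCA.weakAss R M := by
  classical
  obtain ⟨⟨hpp, hle⟩, hmin⟩ := hp
  have hann : (Submodule.span R (s : Set M)).annihilator =
      s.inf fun m => (LinearMap.ker (LinearMap.toSpanSingleton R M m) : Ideal R) := by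
    ext r
    rw [Submodule.mem_annihilator_span, Submodule.mem_finsetInf]
    constructor
    · intro h m hm
      exact h ⟨m, hm⟩
    · intro h m
      exact h m.1 m.2
  rw [hann] at hle
  obtain ⟨m, hms, hm⟩ := hpp.inf_le'.mp hle
  rw [mem_weakAss_iff]
  refine ⟨m, ⟨hpp, hm⟩, ?_⟩
  rintro q ⟨hq, hq'⟩ hqp
  refine hmin ⟨hq, ?_⟩ hqp
  rw [hann]
  exact (Finset.inf_le hms).trans hq'

end L0

section Poly
variable {R : Type u} [CommRing R] (ι : Type u) (M : Type u) [AddCommGroup M] [Module R M]

set_option maxHeartbeats 1600000 in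
/-- a weakly associated prime of `R[T] ⊗ M` contracts to a weakly associated prime of `M` -/
theorem comap_C_mem_weakAss (Q : Ideal (MvPolynomial ι R))
    (hQ : Q ∈ FlatCA.weakAss (MvPolynomial ι R) (MvPolynomial ι R ⊗[R] M)) :
    Q.comap (MvPolynomial.C) ∈ FlatCA.weakAss R M := by
  classical
  rw [mem_weakAss_iff] at hQ
  obtain ⟨z, ⟨hQp, hJQ⟩, hQmin⟩ := hQ
  let b := MvPolynomial.basisMonomials ι R
  let e := TensorProduct.equivFinsuppOfBasisLeft (N := M) b
  obtain ⟨c, hc⟩ : ∃ c, c = e z := ⟨_, rfl⟩
  let s : Finset M := c.support.image c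
  obtain ⟨N, hN⟩ : ∃ N, N = Submodule.span R (s : Set M) := ⟨_, rfl⟩
  have hcN : ∀ α, c α ∈ N := by
    intro α
    rw [hN]
    by_cases h : α ∈ c.support
    · exact Submodule.subset_span (Finset.mem_coe.mpr (Finset.mem_image_of_mem c h))
    · rw [Finsupp.notMem_support_iff.mp h]; exact Submodule.zero_mem _
  have hz : z = c.sum fun α n => b α ⊗ₜ[R] n := by
    rw [← TensorProduct.equivFinsuppOfBasisLeft_symm_apply, hc]
    exact (e.symm_apply_apply z).symm
  -- Step 1
  have h1 : N.annihilator ≤ Ideal.comap (MvPolynomial.C (σ := ι))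
      (LinearMap.ker (LinearMap.toSpanSingleton (MvPolynomial ι R)
      (MvPolynomial ι R ⊗[R] M) z) : Ideal (MvPolynomial ι R)) := by
    intro a ha
    change (MvPolynomial.C (σ := ι) a) • z = 0
    have h : (MvPolynomial.C (σ := ι) a) • z = a • z := by
      rw [← MvPolynomial.algebraMap_eq, algebraMap_smul]
    rw [h]
    apply e.injective
    rw [map_smul, map_zero, ← hc]
    ext α
    rw [Finsupp.smul_apply, Finsupp.zero_apply]
    exact (Submodule.mem_annihilator.mp ha) _ (hcN α)
  -- Step 2
  have h2 : ∀ p' : Ideal R, p'.IsPrime → N.annihilator ≤ p' →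
      (LinearMap.ker (LinearMap.toSpanSingleton (MvPolynomial ι R)
        (MvPolynomial ι R ⊗[R] M) z) : Ideal (MvPolynomial ι R)) ≤ p'.map MvPolynomial.C := by
    intro p' hp' hle f hf
    change f • z = 0 at hf
    let κ := p'.ResidueField
    let φ : MvPolynomial ι R →ₐ[R] MvPolynomial ι κ := MvPolynomial.mapAlgHom (Algebra.ofId R κ)
    have hφ : ∀ g, φ g = MvPolynomial.map (algebraMap R κ) g := fun g => rfl
    have hker : RingHom.ker (MvPolynomial.map (σ := ι) (algebraMap R κ)) =
        p'.map MvPolynomial.C := by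
      rw [MvPolynomial.ker_map, Ideal.ker_algebraMap_residueField]
    rw [← hker, RingHom.mem_ker, ← hφ]
    -- the fibre of `N` is nonzero
    haveI : Module.Finite R N := by
      rw [hN]
      exact Module.Finite.span_of_finite R (Finset.finite_toSet s)
    have hsupp : (⟨p', hp'⟩ : PrimeSpectrum R) ∈ Module.support R N := by
      rw [Module.mem_support_iff_of_finite]
      exact hle
    rw [Module.mem_support_iff_nontrivial_residueField_tensorProduct] at hsupp
    let T : N →ₗ[R] κ ⊗[R] N := TensorProduct.mk R κ N 1
    have hex : ∃ α, T ⟨c α, hcN α⟩ ≠ 0 := by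
      by_contra hcon
      push Not at hcon
      have hT : T = 0 := by
        have hspan : Submodule.span R (((↑) : N → M) ⁻¹' (s : Set M)) = ⊤ := by
          subst hN
          exact Submodule.span_span_coe_preimage
        apply LinearMap.ext_on hspan
        rintro ⟨n, hn⟩ hns
        change n ∈ (s : Set M) at hns
        rw [Finset.mem_coe, Finset.mem_image] at hns
        obtain ⟨α, -, rfl⟩ := hns
        rw [LinearMap.zero_apply]
        exact hcon α
      have : Subsingleton (κ ⊗[R] N) := by
        refine ⟨fun x y => ?_⟩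
        have h0 : ∀ w : κ ⊗[R] N, w = 0 := by
          intro w
          induction w with
          | zero => rfl
          | tmul k n =>
            have : k ⊗ₜ[R] n = k • T n := by
              change _ = k • ((1 : κ) ⊗ₜ[R] n)
              rw [TensorProduct.smul_tmul', smul_eq_mul, mul_one]
            rw [this, hT, LinearMap.zero_apply, smul_zero]
          | add x y hx hy => rw [hx, hy, add_zero]
        rw [h0 x, h0 y]
      exact not_subsingleton _ this
    obtain ⟨α₀, hα₀⟩ := hex
    obtain ⟨ℓ, hℓ⟩ := Module.Projective.exists_dual_ne_zero κ hα₀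
    let ψ : N →ₗ[R] κ := (ℓ.restrictScalars R).comp T
    have hψ : ψ ⟨c α₀, hcN α₀⟩ ≠ 0 := hℓ
    -- the comparison map
    let B : MvPolynomial ι R →ₗ[R] N →ₗ[R] MvPolynomial ι κ :=
      LinearMap.mk₂ R (fun g n => ψ n • φ g)
        (fun g g' n => by rw [map_add, smul_add])
        (fun r g n => by rw [map_smul, smul_comm])
        (fun g n n' => by rw [map_add, add_smul])
        (fun r g n => by rw [map_smul, smul_assoc])
    let Ψ : MvPolynomial ι R ⊗[R] N →ₗ[R] MvPolynomial ι κ := TensorProduct.lift B
    have hΨmul : ∀ (g : MvPolynomial ι R) (w : MvPolynomial ι R ⊗[R] N),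
        Ψ (g • w) = φ g * Ψ w := by
      intro g w
      induction w with
      | zero => rw [smul_zero, map_zero, mul_zero]
      | tmul g' n =>
        rw [TensorProduct.smul_tmul', smul_eq_mul]
        change ψ n • φ (g * g') = φ g * (ψ n • φ g')
        rw [map_mul, mul_smul_comm]
      | add x y hx hy => rw [smul_add, map_add, map_add, hx, hy, mul_add]
    let zN : MvPolynomial ι R ⊗[R] N := ∑ α ∈ c.support, b α ⊗ₜ[R] (⟨c α, hcN α⟩ : N)
    have hzN : (N.subtype.baseChange (MvPolynomial ι R)) zN = z := by
      rw [hz, map_sum]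
      rfl
    have hinj : Function.Injective (N.subtype.baseChange (MvPolynomial ι R)) := by
      have := Module.Flat.lTensor_preserves_injective_linearMap (M := MvPolynomial ι R)
        N.subtype N.injective_subtype
      exact this
    have hfz : f • zN = 0 := by
      apply hinj
      rw [map_smul, hzN, hf, map_zero]
    have hΨz : Ψ zN ≠ 0 := by
      intro h0
      apply hψ
      have h3 : Ψ zN = ∑ α ∈ c.support, MvPolynomial.monomial α (ψ ⟨c α, hcN α⟩) := by
        rw [map_sum]
        refine Finset.sum_congr rfl fun α _ => ?_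
        change ψ _ • φ (b α) = _
        rw [hφ, MvPolynomial.coe_basisMonomials, MvPolynomial.map_monomial, map_one,
          MvPolynomial.smul_monomial, smul_eq_mul, mul_one]
      have h4 := congrArg (MvPolynomial.coeff α₀) h0
      rw [h3, MvPolynomial.coeff_sum, MvPolynomial.coeff_zero] at h4
      simp only [MvPolynomial.coeff_monomial] at h4
      rw [Finset.sum_ite_eq'] at h4
      by_cases hmem : α₀ ∈ c.support
      · rwa [if_pos hmem] at h4
      · have : (⟨c α₀, hcN α₀⟩ : N) = 0 := by
          apply Subtype.ext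
          exact Finsupp.notMem_support_iff.mp hmem
        rw [this, map_zero]
    have h5 : φ f * Ψ zN = 0 := by rw [← hΨmul, hfz, map_zero]
    exact (mul_eq_zero.mp h5).resolve_right hΨz
  -- Step 3
  have hmin : Q.comap (MvPolynomial.C (σ := ι)) ∈ N.annihilator.minimalPrimes := by
    refine ⟨⟨Ideal.comap_isPrime _ Q, h1.trans (Ideal.comap_mono hJQ)⟩, ?_⟩
    rintro p' ⟨hp', hle⟩ hp'Q
    let κ := p'.ResidueField
    have hker : RingHom.ker (MvPolynomial.map (σ := ι) (algebraMap R κ)) =
        p'.map MvPolynomial.C := by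
      rw [MvPolynomial.ker_map, Ideal.ker_algebraMap_residueField]
    have hprime : (p'.map (MvPolynomial.C (σ := ι))).IsPrime := by
      rw [← hker]
      exact RingHom.ker_isPrime _
    have hQle : Q ≤ p'.map MvPolynomial.C :=
      hQmin ⟨hprime, h2 p' hp' hle⟩ (Ideal.map_le_iff_le_comap.mpr hp'Q)
    intro x hx
    have hx' : MvPolynomial.C x ∈ p'.map (MvPolynomial.C (σ := ι)) := hQle hx
    rw [← hker, RingHom.mem_ker, MvPolynomial.map_C, MvPolynomial.C_eq_zero] at hx'
    rwa [Ideal.algebraMap_residueField_eq_zero] at hx'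
  rw [hN] at hmin
  exact mem_weakAss_of_mem_minimalPrimes_annihilator_span s _ hmin

end Poly

end Groth.Agent.H3.WeakAssBC
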