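import Groth.Agent.Lib.Helper3.WeakAssBC.A

/-!
# Weakly associated primes: localization, and purely transcendental field extensions
-/

set_option autoImplicit false
universe u
open TensorProduct

namespace Groth.Agent.H3.WeakAssBC

open Groth.Agent.LD.QC

/-- the assertion of S9592 for a field extension `K/k`, for all pushouts and base changes -/
def P (k K : Type u) [Field k] [Field K] [Algebra k K] : Prop :=
  ∀ (R : Type u) [CommRing R] [Algebra k R] (RK : Type u) [CommRing RK] [Algebra k RK]
    [Algebra K RK] [Algebra R RK] [IsScalarTower k K RK] [IsScalarTower k R RK]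
    [Algebra.IsPushout k K R RK] (M : Type u) [AddCommGroup M] [Module R M] (MK : Type u)
    [AddCommGroup MK] [Module RK MK] [Module R MK] [IsScalarTower R RK MK] (f : M →ₗ[R] MK)
    (_ : IsBaseChange RK f) (q : Ideal RK) [q.IsPrime],
    q ∈ FlatCA.weakAss RK MK → q.comap (algebraMap R RK) ∈ FlatCA.weakAss R M

section Loc

/-- weakly associated primes of a localized module contract to weakly associated primes -/
theorem comap_mem_weakAss_of_isLocalization {A : Type u} [CommRing A] (S : Submonoid A)
    {B : Type u} [CommRing B] [Algebra A B] [IsLocalization S B]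
    {N N' : Type u} [AddCommGroup N] [Module A N] [AddCommGroup N'] [Module A N'] [Module B N']
    [IsScalarTower A B N'] (g : N →ₗ[A] N') [IsLocalizedModule S g]
    (q : Ideal B) (hq : q ∈ FlatCA.weakAss B N') :
    q.comap (algebraMap A B) ∈ FlatCA.weakAss A N := by
  rw [mem_weakAss_iff] at hq ⊢
  obtain ⟨z, hz⟩ := hq
  obtain ⟨⟨n, s⟩, hns⟩ := IsLocalizedModule.surj S g z
  refine ⟨n, ?_⟩
  have h1 : (LinearMap.ker (LinearMap.toSpanSingleton B N' z) : Ideal B) =
      LinearMap.ker (LinearMap.toSpanSingleton B N' (g n)) := by
    ext b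
    change b • z = 0 ↔ b • g n = 0
    have h2 : g n = algebraMap A B (s : A) • z := by
      rw [algebraMap_smul]
      exact hns.symm
    rw [h2, smul_comm, (IsLocalization.map_units B s).smul_eq_zero]
  rw [h1, ker_toSpanSingleton_localized S g n, IsLocalization.minimalPrimes_map S B] at hz
  exact hz

end Loc

section RatFunc
variable (k : Type u) [Field k] (ι : Type u)

attribute [local instance] MvPolynomial.algebraMvPolynomial

set_option maxHeartbeats 3200000 in
set_option synthInstance.maxHeartbeats 400000 in
/-- **purely transcendental extensions** -/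
theorem P_fractionRing_mvPolynomial : P k (FractionRing (MvPolynomial ι k)) := by
  intro R _ _ RK _ _ _ _ _ _ _ M _ _ MK _ _ _ _ f hf q _ hq
  let ξ : ι → RK := fun i => algebraMap (FractionRing (MvPolynomial ι k)) RK
    (algebraMap (MvPolynomial ι k) (FractionRing (MvPolynomial ι k)) (MvPolynomial.X i))
  let a : MvPolynomial ι R →ₐ[R] RK := MvPolynomial.aeval ξ
  letI algRP : Algebra (MvPolynomial ι R) RK := a.toRingHom.toAlgebra
  letI algP₀ : Algebra (MvPolynomial ι k) RK :=
    ((algebraMap (FractionRing (MvPolynomial ι k)) RK).comp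
      (algebraMap (MvPolynomial ι k) (FractionRing (MvPolynomial ι k)))).toAlgebra
  haveI t1 : IsScalarTower (MvPolynomial ι k) (FractionRing (MvPolynomial ι k)) RK :=
    IsScalarTower.of_algebraMap_eq fun x => rfl
  haveI t2 : IsScalarTower R (MvPolynomial ι R) RK :=
    IsScalarTower.of_algebraMap_eq fun r => (a.commutes r).symm
  have hk : ∀ c : k, algebraMap (FractionRing (MvPolynomial ι k)) RK
      (algebraMap (MvPolynomial ι k) (FractionRing (MvPolynomial ι k)) (MvPolynomial.C c)) =
      algebraMap k RK c := by
    intro c
    rw [← MvPolynomial.algebraMap_eq, ← IsScalarTower.algebraMap_apply k (MvPolynomial ι k)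
      (FractionRing (MvPolynomial ι k)), ← IsScalarTower.algebraMap_apply k
      (FractionRing (MvPolynomial ι k)) RK]
  haveI t3 : IsScalarTower k (MvPolynomial ι k) RK :=
    IsScalarTower.of_algebraMap_eq fun c => (hk c).symm
  haveI t4 : IsScalarTower (MvPolynomial ι k) (MvPolynomial ι R) RK := by
    refine IsScalarTower.of_algebraMap_eq fun x => ?_
    have : (algebraMap (FractionRing (MvPolynomial ι k)) RK).comp
        (algebraMap (MvPolynomial ι k) (FractionRing (MvPolynomial ι k))) =
        a.toRingHom.comp (MvPolynomial.map (algebraMap k R)) := by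
      apply MvPolynomial.ringHom_ext
      · intro c
        change algebraMap (FractionRing (MvPolynomial ι k)) RK
          (algebraMap (MvPolynomial ι k) (FractionRing (MvPolynomial ι k)) (MvPolynomial.C c)) =
          a (MvPolynomial.map (algebraMap k R) (MvPolynomial.C c))
        rw [hk, MvPolynomial.map_C, MvPolynomial.aeval_C,
          ← IsScalarTower.algebraMap_apply k R RK]
      · intro i
        change ξ i = a (MvPolynomial.map (algebraMap k R) (MvPolynomial.X i))
        rw [MvPolynomial.map_X, MvPolynomial.aeval_X]
    exact congrArg (fun φ : MvPolynomial ι k →+* RK => φ x) this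
  haveI t5 : IsScalarTower k (MvPolynomial ι R) RK :=
    IsScalarTower.of_algebraMap_eq fun c => by
      rw [IsScalarTower.algebraMap_apply k R RK, IsScalarTower.algebraMap_apply k R
        (MvPolynomial ι R), ← IsScalarTower.algebraMap_apply R (MvPolynomial ι R) RK]
  -- `RK` is a localization of the polynomial ring
  have hpo : Algebra.IsPushout (MvPolynomial ι k) (FractionRing (MvPolynomial ι k))
      (MvPolynomial ι R) RK :=
    (Algebra.IsPushout.comp_iff k (MvPolynomial ι k) R (MvPolynomial ι R)
      (T := FractionRing (MvPolynomial ι k)) (T' := RK)).mp inferInstance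
  haveI hloc : IsLocalization (Algebra.algebraMapSubmonoid (MvPolynomial ι R)
      (nonZeroDivisors (MvPolynomial ι k))) RK :=
    (Algebra.isLocalization_iff_isPushout (nonZeroDivisors (MvPolynomial ι k))
      (FractionRing (MvPolynomial ι k))).mpr hpo.symm
  -- the module side
  letI modRP : Module (MvPolynomial ι R) MK := Module.compHom MK (algebraMap (MvPolynomial ι R) RK)
  haveI t6 : IsScalarTower (MvPolynomial ι R) RK MK := ⟨fun x y z => by
    change (algebraMap (MvPolynomial ι R) RK x * y) • z = algebraMap (MvPolynomial ι R) RK x • (y • z)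
    rw [mul_smul]⟩
  haveI t7 : IsScalarTower R (MvPolynomial ι R) MK := ⟨fun r x m => by
    change algebraMap (MvPolynomial ι R) RK (r • x) • m = r • (algebraMap (MvPolynomial ι R) RK x • m)
    rw [Algebra.smul_def r x, map_mul, ← IsScalarTower.algebraMap_apply R (MvPolynomial ι R) RK,
      mul_smul, algebraMap_smul]⟩
  have hb := TensorProduct.isBaseChange R M (MvPolynomial ι R)
  let g : MvPolynomial ι R ⊗[R] M →ₗ[MvPolynomial ι R] MK := hb.lift f
  have hg : IsBaseChange RK g := by
    refine IsBaseChange.of_comp hb ?_
    have : (g : MvPolynomial ι R ⊗[R] M →ₗ[R] MK) ∘ₗ (TensorProduct.mk R (MvPolynomial ι R) M 1) = f :=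
      hb.lift_comp f
    rw [this]
    exact hf
  haveI : IsLocalizedModule (Algebra.algebraMapSubmonoid (MvPolynomial ι R)
      (nonZeroDivisors (MvPolynomial ι k))) g :=
    (isLocalizedModule_iff_isBaseChange _ RK g).mpr hg
  have h1 := comap_mem_weakAss_of_isLocalization (Algebra.algebraMapSubmonoid (MvPolynomial ι R)
      (nonZeroDivisors (MvPolynomial ι k))) g q hq
  have h2 := comap_C_mem_weakAss ι M _ h1
  rw [Ideal.comap_comap] at h2
  have h3 : (algebraMap (MvPolynomial ι R) RK).comp (MvPolynomial.C (σ := ι)) =
      algebraMap R RK := by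
    ext r
    exact (IsScalarTower.algebraMap_apply R (MvPolynomial ι R) RK r).symm
  rw [h3] at h2
  exact h2

end RatFunc

end Groth.Agent.H3.WeakAssBC
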