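import Groth.Agent.Lib.Helper3.WeakAssBC.B
import Groth.Agent.Lib.Lead.QC.WeakAssFiniteFlat
import Groth.Agent.Lib.Lead.QC.WeakAssIso

/-!
# Weakly associated primes under base change along a field extension
-/

set_option autoImplicit false
universe u
open TensorProduct

namespace Groth.Agent.H3.WeakAssBC

open Groth.Agent.LD.QC

section GoingDown

/-- flat base change and a witness coming from the base: contraction of a prime minimal over the
annihilator is minimal over the annihilator -/
theorem comap_mem_minimalPrimes_of_flat {A B : Type u} [CommRing A] [CommRing B] [Algebra A B]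
    [Module.Flat A B] {N N' : Type u} [AddCommGroup N] [Module A N] [AddCommGroup N']
    [Module A N'] [Module B N'] [IsScalarTower A B N'] (σ : N →ₗ[A] N') (hσ : IsBaseChange B σ)
    (n : N) (q : Ideal B) [q.IsPrime]
    (hq : q ∈ Ideal.minimalPrimes (LinearMap.ker (LinearMap.toSpanSingleton B N' (σ n)) : Ideal B)) :
    q.comap (algebraMap A B) ∈
      Ideal.minimalPrimes (LinearMap.ker (LinearMap.toSpanSingleton A N n) : Ideal A) := by
  rw [ker_toSpanSingleton_baseChange_of_flat σ hσ n] at hq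
  obtain ⟨⟨-, hle⟩, hmin⟩ := hq
  refine ⟨⟨Ideal.comap_isPrime _ q, Ideal.map_le_iff_le_comap.mp hle⟩, ?_⟩
  rintro p' ⟨hp', hIp'⟩ hp'q
  haveI : q.LiesOver (q.comap (algebraMap A B)) := ⟨rfl⟩
  haveI := Ideal.comap_isPrime (algebraMap A B) q
  obtain ⟨q', hq'q, hq'p, hq'l⟩ := Ideal.exists_ideal_le_liesOver_of_le q hp'q
  have hp'eq : p' = q'.comap (algebraMap A B) := hq'l.over
  have h1 : Ideal.map (algebraMap A B)
      (LinearMap.ker (LinearMap.toSpanSingleton A N n) : Ideal A) ≤ q' := by
    rw [Ideal.map_le_iff_le_comap, ← hp'eq]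
    exact hIp'
  have h2 : q ≤ q' := hmin ⟨hq'p, h1⟩ hq'q
  rw [hp'eq]
  exact Ideal.comap_mono h2

end GoingDown

section Finite

/-- **finite extensions** -/
theorem P_finite (k K : Type u) [Field k] [Field K] [Algebra k K] [Module.Finite k K] : P k K := by
  intro R _ _ RK _ _ _ _ _ _ _ M _ _ MK _ _ _ _ f hf q _ hq
  have hsymm : Algebra.IsPushout k R K RK := Algebra.IsPushout.symm inferInstance
  have hbc : IsBaseChange R (IsScalarTower.toAlgHom k K RK).toLinearMap := hsymm.out
  haveI : Module.Finite R RK := Module.Finite.equiv hbc.equiv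
  haveI : Module.Flat R RK := Module.Flat.isBaseChange k R K RK hbc
  have h1 : q.comap (algebraMap R RK) ∈ FlatCA.weakAss R MK := comap_mem_weakAss_of_finite q hq
  have h2 : FlatCA.weakAss R (RK ⊗[R] M) = FlatCA.weakAss R MK := by
    refine weakAss_eq_of_addEquiv hf.equiv.toAddEquiv ?_
    intro r x
    change hf.equiv (r • x) = r • hf.equiv x
    rw [← algebraMap_smul RK r x, map_smul, algebraMap_smul]
  rw [← h2] at h1
  exact weakAss_tensor_subset_of_finite_flat M _ h1

end Finite

section Tower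

attribute [local instance] Algebra.TensorProduct.rightAlgebra

variable (k L K : Type u) [Field k] [Field L] [Field K] [Algebra k L] [Algebra L K] [Algebra k K]
  [IsScalarTower k L K]

set_option maxHeartbeats 3200000 in
set_option synthInstance.maxHeartbeats 400000 in
/-- the tower step, with either the full statement for `K/L` or a witness defined over `L` -/
theorem tower_main (h1 : P k L)
    (R : Type u) [CommRing R] [Algebra k R] (RK : Type u) [CommRing RK] [Algebra k RK]
    [Algebra K RK] [Algebra R RK] [IsScalarTower k K RK] [IsScalarTower k R RK]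
    [Algebra.IsPushout k K R RK] (M : Type u) [AddCommGroup M] [Module R M] (MK : Type u)
    [AddCommGroup MK] [Module RK MK] [Module R MK] [IsScalarTower R RK MK] (f : M →ₗ[R] MK)
    (hf : IsBaseChange RK f) (q : Ideal RK) [q.IsPrime] (z : MK)
    (hz : q ∈ Ideal.minimalPrimes (LinearMap.ker (LinearMap.toSpanSingleton RK MK z) : Ideal RK))
    (hcase : P L K ∨ z ∈ AddSubmonoid.closure
      {x : MK | ∃ (c : L) (m : M), x = algebraMap K RK (algebraMap L K c) • f m}) :
    q.comap (algebraMap R RK) ∈ FlatCA.weakAss R M := by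
  letI algL : Algebra L RK := ((algebraMap K RK).comp (algebraMap L K)).toAlgebra
  haveI t1 : IsScalarTower L K RK := IsScalarTower.of_algebraMap_eq fun _ => rfl
  haveI t2 : IsScalarTower k L RK := IsScalarTower.of_algebraMap_eq fun c => by
    rw [IsScalarTower.algebraMap_apply k K RK, IsScalarTower.algebraMap_apply k L K]
    rfl
  let φ : L ⊗[k] R →ₐ[k] RK := Algebra.TensorProduct.lift (IsScalarTower.toAlgHom k L RK)
    (IsScalarTower.toAlgHom k R RK) (fun _ _ => Commute.all _ _)
  letI algRL : Algebra (L ⊗[k] R) RK := φ.toRingHom.toAlgebra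
  have hφ : ∀ x, algebraMap (L ⊗[k] R) RK x = φ x := fun _ => rfl
  haveI t3 : IsScalarTower L (L ⊗[k] R) RK := IsScalarTower.of_algebraMap_eq fun l => by
    rw [hφ, Algebra.TensorProduct.algebraMap_apply, Algebra.TensorProduct.lift_tmul, map_one,
      mul_one]
    rfl
  haveI t4 : IsScalarTower R (L ⊗[k] R) RK := IsScalarTower.of_algebraMap_eq fun r => by
    rw [hφ]
    change _ = φ (1 ⊗ₜ r)
    rw [Algebra.TensorProduct.lift_tmul, map_one, one_mul]
    rfl
  haveI t5 : IsScalarTower k (L ⊗[k] R) RK := IsScalarTower.of_algebraMap_eq fun c => by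
    rw [hφ]
    exact (φ.commutes c).symm
  haveI hpoK : Algebra.IsPushout L K (L ⊗[k] R) RK :=
    (Algebra.IsPushout.comp_iff k L R (L ⊗[k] R) (T := K) (T' := RK)).mp inferInstance
  -- the module side
  letI modRL : Module (L ⊗[k] R) MK := Module.compHom MK (algebraMap (L ⊗[k] R) RK)
  haveI t6 : IsScalarTower (L ⊗[k] R) RK MK := ⟨fun x y w => by
    change (algebraMap (L ⊗[k] R) RK x * y) • w = algebraMap (L ⊗[k] R) RK x • (y • w)
    rw [mul_smul]⟩
  haveI t7 : IsScalarTower R (L ⊗[k] R) MK := ⟨fun r x w => by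
    change algebraMap (L ⊗[k] R) RK (r • x) • w = r • (algebraMap (L ⊗[k] R) RK x • w)
    rw [Algebra.smul_def r x, map_mul, ← IsScalarTower.algebraMap_apply R (L ⊗[k] R) RK,
      mul_smul, algebraMap_smul]⟩
  have hb := TensorProduct.isBaseChange R M (L ⊗[k] R)
  let g : (L ⊗[k] R) ⊗[R] M →ₗ[L ⊗[k] R] MK := hb.lift f
  have hg : IsBaseChange RK g := by
    refine IsBaseChange.of_comp hb ?_
    have : (g : (L ⊗[k] R) ⊗[R] M →ₗ[R] MK) ∘ₗ (TensorProduct.mk R (L ⊗[k] R) M 1) = f :=
      hb.lift_comp f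
    rw [this]
    exact hf
  have h3 : q.comap (algebraMap (L ⊗[k] R) RK) ∈
      FlatCA.weakAss (L ⊗[k] R) ((L ⊗[k] R) ⊗[R] M) := by
    rcases hcase with h2 | hcl
    · exact h2 (L ⊗[k] R) RK _ MK g hg q ((mem_weakAss_iff q).mpr ⟨z, hz⟩)
    · have hzr : z ∈ LinearMap.range g := by
        have hle : AddSubmonoid.closure
            {x : MK | ∃ (c : L) (m : M), x = algebraMap K RK (algebraMap L K c) • f m} ≤
            (LinearMap.range g).toAddSubmonoid := by
          rw [AddSubmonoid.closure_le]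
          rintro x ⟨c, m, rfl⟩
          refine ⟨(c ⊗ₜ[k] (1 : R)) ⊗ₜ[R] m, ?_⟩
          have e1 : (c ⊗ₜ[k] (1 : R)) ⊗ₜ[R] m =
              (c ⊗ₜ[k] (1 : R)) • ((1 : L ⊗[k] R) ⊗ₜ[R] m) := by
            rw [TensorProduct.smul_tmul', smul_eq_mul, mul_one]
          rw [e1, map_smul]
          have e2 : g ((1 : L ⊗[k] R) ⊗ₜ[R] m) = f m := hb.lift_eq f m
          rw [e2]
          change algebraMap (L ⊗[k] R) RK (c ⊗ₜ[k] (1 : R)) • f m = _
          rw [hφ, Algebra.TensorProduct.lift_tmul, map_one, mul_one]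
          rfl
        exact hle hcl
      obtain ⟨z', rfl⟩ := hzr
      haveI : Module.Flat (L ⊗[k] R) RK :=
        Module.Flat.isBaseChange L (L ⊗[k] R) K RK
          (Algebra.IsPushout.symm hpoK).out
      rw [mem_weakAss_iff]
      exact ⟨z', comap_mem_minimalPrimes_of_flat g hg z' q hz⟩
  have h4 := h1 R (L ⊗[k] R) M _ (TensorProduct.mk R (L ⊗[k] R) M 1) hb _ h3
  rw [Ideal.comap_comap] at h4
  have h5 : (algebraMap (L ⊗[k] R) RK).comp (algebraMap R (L ⊗[k] R)) = algebraMap R RK := by
    ext r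
    exact (IsScalarTower.algebraMap_apply R (L ⊗[k] R) RK r).symm
  rw [h5] at h4
  exact h4

/-- **transitivity** -/
theorem P_trans (h1 : P k L) (h2 : P L K) : P k K := by
  intro R _ _ RK _ _ _ _ _ _ _ M _ _ MK _ _ _ _ f hf q _ hq
  obtain ⟨z, hz⟩ := (mem_weakAss_iff q).mp hq
  exact tower_main k L K h1 R RK M MK f hf q z hz (Or.inl h2)

end Tower

end Groth.Agent.H3.WeakAssBC
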