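import Groth.Agent.Lib.Helper3.WeakAssBC.C

/-!
# Weakly associated primes under base change along an arbitrary field extension (S9592)
-/

set_option autoImplicit false
universe u
open TensorProduct

namespace Groth.Agent.H3.WeakAssBC

open Groth.Agent.LD.QC

section Alg

variable (L K : Type u) [Field L] [Field K] [Algebra L K]

set_option maxHeartbeats 1600000 in
/-- every element of the base change is a finite sum of elements `c • f m` with `c` in the field -/
theorem exists_finset_mem_closure
    (R : Type u) [CommRing R] [Algebra L R] (RK : Type u) [CommRing RK] [Algebra L RK]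
    [Algebra K RK] [Algebra R RK] [IsScalarTower L K RK] [IsScalarTower L R RK]
    [Algebra.IsPushout L K R RK] (M : Type u) [AddCommGroup M] [Module R M] (MK : Type u)
    [AddCommGroup MK] [Module RK MK] [Module R MK] [IsScalarTower R RK MK] (f : M →ₗ[R] MK)
    (hf : IsBaseChange RK f) (z : MK) :
    ∃ s : Finset K, z ∈ AddSubmonoid.closure
      {x : MK | ∃ c ∈ s, ∃ m : M, x = algebraMap K RK c • f m} := by
  classical
  letI : Module L M := Module.compHom M (algebraMap L R)
  haveI : IsScalarTower L R M := ⟨fun l r m => by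
    rw [Algebra.smul_def, mul_smul]
    rfl⟩
  let Ξ := Algebra.IsPushout.cancelBaseChange L K R RK M
  have key : ∀ w : K ⊗[L] M, ∃ s : Finset K, hf.equiv (Ξ.symm w) ∈ AddSubmonoid.closure
      {x : MK | ∃ c ∈ s, ∃ m : M, x = algebraMap K RK c • f m} := by
    intro w
    induction w with
    | zero =>
      refine ⟨∅, ?_⟩
      rw [map_zero, map_zero]
      exact zero_mem _
    | tmul c m =>
      refine ⟨{c}, AddSubmonoid.subset_closure ⟨c, Finset.mem_singleton_self c, m, ?_⟩⟩
      rw [Algebra.IsPushout.cancelBaseChange_symm_tmul, IsBaseChange.equiv_tmul]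
    | add x y hx hy =>
      obtain ⟨s₁, h₁⟩ := hx
      obtain ⟨s₂, h₂⟩ := hy
      refine ⟨s₁ ∪ s₂, ?_⟩
      rw [map_add, map_add]
      refine add_mem (AddSubmonoid.closure_mono ?_ h₁) (AddSubmonoid.closure_mono ?_ h₂)
      · rintro x ⟨c, hc, m, rfl⟩
        exact ⟨c, Finset.mem_union_left _ hc, m, rfl⟩
      · rintro x ⟨c, hc, m, rfl⟩
        exact ⟨c, Finset.mem_union_right _ hc, m, rfl⟩
  obtain ⟨s, hs⟩ := key (Ξ (hf.equiv.symm z))
  refine ⟨s, ?_⟩
  rwa [LinearEquiv.symm_apply_apply, LinearEquiv.apply_symm_apply] at hs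

/-- **algebraic extensions** -/
theorem P_alg [Algebra.IsAlgebraic L K] : P L K := by
  intro R _ _ RK _ _ _ _ _ _ _ M _ _ MK _ _ _ _ f hf q _ hq
  obtain ⟨z, hz⟩ := (mem_weakAss_iff q).mp hq
  obtain ⟨s, hs⟩ := exists_finset_mem_closure L K R RK M MK f hf z
  haveI : Finite (s : Set K) := s.finite_toSet.to_subtype
  haveI : FiniteDimensional L (IntermediateField.adjoin L (s : Set K)) :=
    IntermediateField.finiteDimensional_adjoin fun x _ => Algebra.IsIntegral.isIntegral x
  refine tower_main L (IntermediateField.adjoin L (s : Set K)) K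
    (P_finite L (IntermediateField.adjoin L (s : Set K))) R RK M MK f hf q z hz (Or.inr ?_)
  refine AddSubmonoid.closure_mono ?_ hs
  rintro x ⟨c, hc, m, rfl⟩
  exact ⟨⟨c, IntermediateField.subset_adjoin L _ (Finset.mem_coe.mpr hc)⟩, m, rfl⟩

end Alg

section Main

/-- **S9592**: weakly associated primes of a base change along a field extension contract to
weakly associated primes. -/
theorem P_all (k K : Type u) [Field k] [Field K] [Algebra k K] : P k K := by
  obtain ⟨s, hs⟩ := exists_isTranscendenceBasis k K
  haveI halg : Algebra.IsAlgebraic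
      (IntermediateField.adjoin k (Set.range ((↑) : s → K))) K := hs.isAlgebraic_field
  let e : FractionRing (MvPolynomial s k) ≃ₐ[k]
      IntermediateField.adjoin k (Set.range ((↑) : s → K)) := hs.1.aevalEquivField
  letI : Algebra (FractionRing (MvPolynomial s k))
      (IntermediateField.adjoin k (Set.range ((↑) : s → K))) := e.toAlgHom.toRingHom.toAlgebra
  haveI : IsScalarTower k (FractionRing (MvPolynomial s k))
      (IntermediateField.adjoin k (Set.range ((↑) : s → K))) :=
    IsScalarTower.of_algebraMap_eq fun c => (e.commutes c).symm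
  haveI : Module.Finite (FractionRing (MvPolynomial s k))
      (IntermediateField.adjoin k (Set.range ((↑) : s → K))) :=
    Module.Finite.of_surjective (Algebra.linearMap _ _) e.surjective
  have hkL : P k (IntermediateField.adjoin k (Set.range ((↑) : s → K))) :=
    P_trans k (FractionRing (MvPolynomial s k)) _ (P_fractionRing_mvPolynomial k s)
      (P_finite _ _)
  exact P_trans k (IntermediateField.adjoin k (Set.range ((↑) : s → K))) K hkL (P_alg _ K)

end Main

end Groth.Agent.H3.WeakAssBC
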