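import Groth.Agent.Lib.Helper3.WeakAssBC.D
import Groth.Agent.Lib.Lead.QC.FlatBC
import Groth.Agent.Lib.Lead.QC.WeakAss

/-!
# Weakly associated points under base change along a field extension (S8900)
-/

set_option autoImplicit false
universe u
open CategoryTheory Limits AlgebraicGeometry TopologicalSpace Opposite TensorProduct

namespace Groth.Agent.H3.WeakAssBC

open Groth.Agent.LD.QC

/-- `P_all` for commutative rings which happen to be fields. -/
theorem weakAss_comap_of_isField {k₀ K₀ : Type u} [CommRing k₀] [CommRing K₀] [Algebra k₀ K₀]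
    (hk : IsField k₀) (hK : IsField K₀)
    (R : Type u) [CommRing R] [Algebra k₀ R] (RK : Type u) [CommRing RK] [Algebra k₀ RK]
    [Algebra K₀ RK] [Algebra R RK] [IsScalarTower k₀ K₀ RK] [IsScalarTower k₀ R RK]
    [Algebra.IsPushout k₀ K₀ R RK] (M : Type u) [AddCommGroup M] [Module R M] (MK : Type u)
    [AddCommGroup MK] [Module RK MK] [Module R MK] [IsScalarTower R RK MK] (f : M →ₗ[R] MK)
    (hf : IsBaseChange RK f) (q : Ideal RK) [q.IsPrime] (hq : q ∈ FlatCA.weakAss RK MK) :
    q.comap (algebraMap R RK) ∈ FlatCA.weakAss R M := by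
  letI := hk.toField
  letI := hK.toField
  exact P_all k₀ K₀ R RK M MK f hf q hq

section Sch
variable {X S X' S' : Scheme.{u}} {f : X ⟶ S} {f' : X' ⟶ S'} {g' : X' ⟶ X} {g : S' ⟶ S}

set_option maxHeartbeats 1600000 in
/-- weakly associated points of a pullback along a base change of "field-like" schemes map to
weakly associated points. -/
theorem isWeakAssPoint_of_isPullback (hc : IsPullback g' f' f g)
    (hS : ∀ W : S.Opens, IsAffineOpen W → (W : Set S).Nonempty → IsField Γ(S, W))
    (hS' : ∀ W : S'.Opens, IsAffineOpen W → (W : Set S').Nonempty → IsField Γ(S', W))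
    (F : X.Modules) [F.IsQuasicoherent] (y : X')
    (hy : Curv2.IsWeakAssPoint ((Scheme.Modules.pullback g').obj F) y) :
    Curv2.IsWeakAssPoint F (g' y) := by
  haveI := qc_pullback g' F
  obtain ⟨W, W', U, U', hW'W, hUW, e1, e2, hW, hW', hU, hU', hx', hpo⟩ :=
    exists_affine_pushout_chart hc y
  have hxU : g' y ∈ U := e1 hx'
  letI aRR' : Algebra Γ(S, W) Γ(S', W') := (g.appLE W W' hW'W).hom.toAlgebra
  letI aRT : Algebra Γ(S, W) Γ(X, U) := (f.appLE W U hUW).hom.toAlgebra
  letI aR'T' : Algebra Γ(S', W') Γ(X', U') := (f'.appLE W' U' e2).hom.toAlgebra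
  letI aTT' : Algebra Γ(X, U) Γ(X', U') := (g'.appLE U U' e1).hom.toAlgebra
  letI aRT' : Algebra Γ(S, W) Γ(X', U') :=
    ((g'.appLE U U' e1).hom.comp (f.appLE W U hUW).hom).toAlgebra
  haveI t1 : IsScalarTower Γ(S, W) Γ(X, U) Γ(X', U') := IsScalarTower.of_algebraMap_eq fun _ => rfl
  haveI t2 : IsScalarTower Γ(S, W) Γ(S', W') Γ(X', U') := IsScalarTower.of_algebraMap_eq fun r => by
    have := congr($(hpo.w) r)
    exact this
  haveI hPO : Algebra.IsPushout Γ(S, W) Γ(S', W') Γ(X, U) Γ(X', U') :=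
    CommRingCat.isPushout_iff_isPushout.mp hpo.flip
  set P := (Scheme.Modules.pullback g').obj F with hP
  letI mTN' : Module Γ(X, U) Γ(P, U') := pbModule g' F e1
  haveI tTT'N' : IsScalarTower Γ(X, U) Γ(X', U') Γ(P, U') := pbModule_isScalarTower g' F e1
  have hbc := isBaseChange_pbSec g' hU' hU e1 F
  rw [isWeakAssPoint_iff_mem_weakAss P hU' y hx'] at hy
  rw [isWeakAssPoint_iff_mem_weakAss F hU (g' y) hxU]
  have hcomap := IsAffineOpen.comap_primeIdealOf_appLE (f := g') U hU U' hU' e1 hx'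
  rw [← hcomap]
  exact weakAss_comap_of_isField (hS W hW ⟨f (g' y), hUW hxU⟩) (hS' W' hW' ⟨f' y, e2 hx'⟩)
    Γ(X, U) Γ(X', U') Γ(F, U) Γ(P, U') (pbSecₗ g' F e1) hbc _ hy

/-- sections of `Spec k` over a nonempty open form a field. -/
theorem isField_Γ_Spec_of_nonempty (k : Type u) [Field k] (W : (Spec (CommRingCat.of k)).Opens)
    (hW : (W : Set (Spec (CommRingCat.of k))).Nonempty) : IsField Γ(Spec (CommRingCat.of k), W) := by
  obtain rfl : W = ⊤ := by
    obtain ⟨w, hw⟩ := hW
    ext z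
    have : z = w := Subsingleton.elim (α := PrimeSpectrum k) z w
    subst this
    simp only [hw, true_iff]
    trivial
  exact (Scheme.ΓSpecIso (CommRingCat.of k)).commRingCatIsoToRingEquiv.toMulEquiv.isField
    (Field.toIsField k)

/-- **S8900**, for any pullback square over `Spec k ← Spec K`. -/
theorem isWeakAssPoint_of_isPullback_field {k K : Type u} [Field k] [Field K]
    {X X' : Scheme.{u}} {f : X ⟶ Spec (CommRingCat.of k)} {f' : X' ⟶ Spec (CommRingCat.of K)}
    {g' : X' ⟶ X} {g : Spec (CommRingCat.of K) ⟶ Spec (CommRingCat.of k)}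
    (hc : IsPullback g' f' f g) (F : X.Modules) [F.IsQuasicoherent] (y : X')
    (hy : Curv2.IsWeakAssPoint ((Scheme.Modules.pullback g').obj F) y) :
    Curv2.IsWeakAssPoint F (g' y) :=
  isWeakAssPoint_of_isPullback hc (fun W _ h => isField_Γ_Spec_of_nonempty k W h)
    (fun W _ h => isField_Γ_Spec_of_nonempty K W h) F y hy

end Sch

end Groth.Agent.H3.WeakAssBC
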